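import Cfsg.Agent.Fi23Sylow.Model
import Cfsg.Prelude.Def_Transfer

/-!
The elementary abelian normal subgroups of the Sylow 2-subgroup of Fi23.
-/

set_option autoImplicit false
set_option Elab.async false
set_option maxRecDepth 100000

namespace Cfsg.Agent.Fi23Sylow

open Cfsg.Agent.CosetCert

/-- Conjugation of classes by the generators. -/
noncomputable def conjS (j s : Nat) : Nat := conjStore.get s / 2 ^ (8 * j) % 256

/-- The conjugate is the only class solving its equation. -/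
theorem conjS_ok : allFrom (fun j => allFrom (fun s =>
    force (mulS (2 ^ j) s) fun m => allFrom (fun c =>
      !(Nat.beq (mulS c (2 ^ j)) m) || Nat.beq (conjS j s) c) 0 128) 0 128) 0 7 = true := by
  decide +kernel

theorem pick_pow : allFrom (fun j => decide (pick gWords 7 (2 ^ j) = gWords.getD j [])) 0 7 = true := by
  decide +kernel

/-- The element added by one operation. -/
noncomputable def opVal (l : List Nat) (o : Nat × Nat × Nat) : Nat :=
  if o.1 = 0 then mulS (l.getD o.2.1 0) (l.getD o.2.2 0) else conjS (o.1 - 1) (l.getD o.2.1 0)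

/-- One operation. -/
noncomputable def extend : List (Nat × Nat × Nat) → List Nat → List Nat
  | [], l => l
  | o :: t, l => extend t (l ++ [opVal l o])

/-- The operations read existing entries. -/
noncomputable def opsB : List (Nat × Nat × Nat) → List Nat → Bool
  | [], _ => true
  | o :: t, l => Nat.blt o.2.1 l.length &&
      (if o.1 = 0 then Nat.blt o.2.2 l.length else Nat.blt (o.1 - 1) 7) &&
      opsB t (l ++ [opVal l o])

/-- A derivation shows that a larger listed subgroup lies in the set, or that it is not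
elementary abelian. -/
noncomputable def derivB (i x : Nat) : Bool :=
  let S := normSubs.getD i []
  let d := (derivs.getD i []).getD x ([], 999)
  S.contains x || (opsB d.1 (S ++ [x]) &&
    let l := extend d.1 (S ++ [x])
    (l.any fun a => !(Nat.beq (mulS a a) 0) || l.any fun b => !(Nat.beq (mulS a b) (mulS b a))) ||
      (Nat.blt d.2 7 && (normSubs.getD d.2 []).all (fun y => l.contains y) &&
        Nat.blt S.length (normSubs.getD d.2 []).length))

theorem derivs_ok : allFrom (fun i => allFrom (derivB i) 0 128) 0 7 = true := by decide +kernel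

/-- The listed subgroups: no repetitions, and small fixed spaces. -/
theorem normSubs_ok : allFrom (fun i =>
    decide (normSubs.getD i []).Nodup && ((normSubs.getD i []).all fun x => Nat.blt x 128) &&
      (Nat.beq i 0 || Nat.blt (((List.range 2048).filter fun v => (normSubs.getD i []).all fun s =>
        Nat.beq (act s v) v).length * (normSubs.getD i []).length) 2048)) 0 7 = true := by
  decide +kernel

theorem normSubs_zero : normSubs.getD 0 [] = [0] := rfl

theorem R_pow {j : Nat} (hj : j < 7) : R (2 ^ j) = gen j := by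
  have h := of_decide_eq_true ((allFrom_iff _ _ _).1 pick_pow j (Nat.zero_le _) (by omega))
  rw [R, h]; rfl

/-- The classes met by a set. -/
def classes (A : Subgroup G) : Set Nat := {s | s < 128 ∧ ∃ v, v < 2048 ∧ E v * R s ∈ A}

section

variable {A : Subgroup G} (hAT : A ≤ T) (hn : (A.subgroupOf T).Normal)
  (hel : Cfsg.IsElementaryAbelian 2 A)

theorem mulS_eq_of_eq {v a w b u c v' a' w' b' u' c' : Nat}
    (h1 : (E v * R a) * (E w * R b) = E u * R c) (hu : u < 2048) (hc : c < 128)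
    (h2 : (E v' * R a') * (E w' * R b') = E u' * R c') (hu' : u' < 2048) (hc' : c' < 128)
    (h : (E v * R a) * (E w * R b) = (E v' * R a') * (E w' * R b')) : c = c' :=
  (unique hu hc hu' hc' (h1.symm.trans (h.trans h2))).2

theorem classes_mul {a b : Nat} (ha : a ∈ classes A) (hb : b ∈ classes A) :
    mulS a b ∈ classes A := by
  obtain ⟨ha', v, hv, hva⟩ := ha
  obtain ⟨hb', w, hw, hwb⟩ := hb
  obtain ⟨u, hu, e⟩ := mul_spec (b := b) hv ha' hw
  exact ⟨mulS_lt ha' b, u, hu, e ▸ mul_mem hva hwb⟩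

include hel in
theorem classes_elem {a b : Nat} (ha : a ∈ classes A) (hb : b ∈ classes A) :
    mulS a a = 0 ∧ mulS a b = mulS b a := by
  obtain ⟨ha', v, hv, hva⟩ := ha
  obtain ⟨hb', w, hw, hwb⟩ := hb
  obtain ⟨u, hu, e⟩ := mul_spec (b := b) hv ha' hw
  obtain ⟨u', hu', e'⟩ := mul_spec (b := a) hw hb' hv
  obtain ⟨u2, hu2, e2⟩ := mul_spec (b := a) hv ha' hv
  constructor
  · have h := hel.2 _ hva
    rw [pow_two, e2] at h
    exact (unique hu2 (mulS_lt ha' a) (w := 0) (b := 0) (by norm_num) (by norm_num)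
      (h.trans (by rw [E_zero, R_zero, mul_one]))).2
  · exact mulS_eq_of_eq e hu (mulS_lt ha' b) e' hu' (mulS_lt hb' a)
      (congrArg Subtype.val (hel.1.is_comm.comm ⟨_, hva⟩ ⟨_, hwb⟩))

include hAT hn in
theorem classes_conj {a j : Nat} (ha : a ∈ classes A) (hj : j < 7) : conjS j a ∈ classes A := by
  obtain ⟨ha', v, hv, hva⟩ := ha
  have hj2 : 2 ^ j < 128 := Nat.pow_lt_pow_right (a := 2) (n := 7) (by norm_num) hj
  have hg : E 0 * R (2 ^ j) ∈ T := mem_T (by norm_num) hj2
  have hmem := hn.conj_mem ⟨_, hAT hva⟩ hva ⟨_, hg⟩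
  rw [Subgroup.mem_subgroupOf] at hmem
  simp only [Subgroup.coe_mul, Subgroup.coe_inv] at hmem
  obtain ⟨w, c, hw, hc, ec⟩ := hAT hmem
  obtain ⟨u, hu, e⟩ := mul_spec (v := 0) (b := a) (by norm_num) hj2 hv
  obtain ⟨u', hu', e'⟩ := mul_spec (b := 2 ^ j) hw hc (w := 0) (by norm_num)
  have heq : mulS c (2 ^ j) = mulS (2 ^ j) a :=
    mulS_eq_of_eq e' hu' (mulS_lt hc _) e hu (mulS_lt hj2 _) (by rw [← ec]; group)
  have h := (allFrom_iff _ _ _).1 ((allFrom_iff _ _ _).1 conjS_ok j (Nat.zero_le _) (by omega)) a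
    (Nat.zero_le _) (by omega)
  rw [force_eq] at h
  have h2 := (allFrom_iff _ _ _).1 h c (Nat.zero_le _) (by omega)
  rw [heq, Nat.beq_refl, Bool.not_true, Bool.false_or] at h2
  rw [Nat.eq_of_beq_eq_true h2]
  exact ⟨hc, w, hw, ec ▸ hmem⟩

include hAT hn in
theorem classes_extend : ∀ (ops : List (Nat × Nat × Nat)) (l : List Nat),
    opsB ops l = true → (∀ y ∈ l, y ∈ classes A) → ∀ y ∈ extend ops l, y ∈ classes A
  | [], l, _, hl => hl
  | o :: t, l, h, hl => by
    rw [opsB, Bool.and_eq_true, Bool.and_eq_true] at h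
    obtain ⟨⟨h1, h2⟩, h3⟩ := h
    have hg : ∀ k, k < l.length → l.getD k 0 ∈ classes A := fun k hk => by
      rw [List.getD_eq_getElem _ _ hk]; exact hl _ (List.getElem_mem hk)
    refine classes_extend t _ h3 fun y hy => ?_
    rcases List.mem_append.1 hy with hy | hy
    · exact hl y hy
    · rw [List.mem_singleton.1 hy, opVal]
      split
      · rename_i h0
        rw [if_pos h0] at h2
        exact classes_mul (hg _ (Nat.le_of_ble_eq_true h1)) (hg _ (Nat.le_of_ble_eq_true h2))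
      · rename_i h0
        rw [if_neg h0] at h2
        exact classes_conj hAT hn (hg _ (Nat.le_of_ble_eq_true h1)) (Nat.le_of_ble_eq_true h2)

theorem zero_mem_classes : 0 ∈ classes A :=
  ⟨by norm_num, 0, by norm_num, by rw [E_zero, R_zero, mul_one]; exact one_mem A⟩

include hAT hn hel in
theorem classes_listed : ∃ i, i < 7 ∧ ∀ s, s ∈ classes A ↔ s ∈ normSubs.getD i [] := by
  classical
  let I := (Finset.range 7).filter fun i => ∀ y ∈ normSubs.getD i [], y ∈ classes A
  have h0 : 0 ∈ I := by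
    simp only [I, Finset.mem_filter, Finset.mem_range]
    refine ⟨by norm_num, fun y hy => ?_⟩
    rw [normSubs_zero, List.mem_singleton] at hy
    rw [hy]
    exact zero_mem_classes
  obtain ⟨i, hi, hmax⟩ := I.exists_max_image (fun i => (normSubs.getD i []).length) ⟨0, h0⟩
  simp only [I, Finset.mem_filter, Finset.mem_range] at hi hmax
  refine ⟨i, hi.1, fun s => ⟨fun hs => ?_, hi.2 s⟩⟩
  by_contra hns
  have h := (allFrom_iff _ _ _).1 ((allFrom_iff _ _ _).1 derivs_ok i (Nat.zero_le _) (by omega)) s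
    (Nat.zero_le _) (by have := hs.1; omega)
  simp only [derivB, Bool.or_eq_true, Bool.and_eq_true, List.contains_iff_mem] at h
  obtain ⟨hops, h⟩ := h.resolve_left hns
  have hl := classes_extend hAT hn _ _ hops (fun y hy => by
    rcases List.mem_append.1 hy with hy | hy
    · exact hi.2 y hy
    · rw [List.mem_singleton.1 hy]; exact hs)
  rcases h with h | ⟨⟨hb, hall⟩, hlen⟩
  · simp only [List.any_eq_true, Bool.or_eq_true, Bool.not_eq_true'] at h
    obtain ⟨a, ha, h | ⟨b, hb, h⟩⟩ := h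
    · rw [(classes_elem hel (hl a ha) (hl a ha)).1, Nat.beq_refl] at h
      exact Bool.noConfusion h
    · rw [(classes_elem hel (hl a ha) (hl b hb)).2, Nat.beq_refl] at h
      exact Bool.noConfusion h
  · refine absurd (hmax _ ⟨Nat.le_of_ble_eq_true hb, fun y hy => hl y ?_⟩)
      (not_le.2 (Nat.le_of_ble_eq_true hlen))
    simpa using List.all_eq_true.1 hall y hy

include hAT hn hel in
theorem le_or_card_lt : (∀ a ∈ A, ∃ v, v < 2048 ∧ a = E v) ∨ Nat.card A < 2048 := by
  classical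
  obtain ⟨i, hi, hS⟩ := classes_listed hAT hn hel
  rcases Nat.eq_zero_or_pos i with rfl | hpos
  · left
    intro a ha
    obtain ⟨v, s, hv, hs, rfl⟩ := hAT ha
    have h := (hS s).1 ⟨hs, v, hv, ha⟩
    rw [normSubs_zero, List.mem_singleton] at h
    exact ⟨v, hv, by rw [h, R_zero, mul_one]⟩
  · right
    have hok := (allFrom_iff _ _ _).1 normSubs_ok i (Nat.zero_le _) (by omega)
    simp only [Bool.and_eq_true, Bool.or_eq_true, decide_eq_true_eq] at hok
    obtain ⟨⟨hnd, -⟩, hcount⟩ := hok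
    rcases hcount with h | hcount
    · have := Nat.eq_of_beq_eq_true h; omega
    set S := normSubs.getD i [] with hSdef
    set F := (List.range 2048).filter fun v => S.all fun s => Nat.beq (act s v) v with hF
    have hrep : ∀ s, ∃ v, s ∈ S → v < 2048 ∧ E v * R s ∈ A := fun s => by
      by_cases h : s ∈ S
      · obtain ⟨-, v, hv, hva⟩ := (hS s).2 h
        exact ⟨v, fun _ => ⟨hv, hva⟩⟩
      · exact ⟨0, fun h' => absurd h' h⟩
    choose rep hrep using hrep
    have hA : (A : Set G) ⊆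
        ((F.toFinset ×ˢ S.toFinset).image fun p => E p.1 * (E (rep p.2) * R p.2) : Finset G) := by
      intro a ha
      obtain ⟨w, s, hw, hs, rfl⟩ := hAT ha
      have hsS : s ∈ S := (hS s).1 ⟨hs, w, hw, ha⟩
      obtain ⟨hr, hra⟩ := hrep s hsS
      have hEA : E (w ^^^ rep s) ∈ A := by
        have e : E (w ^^^ rep s) = (E w * R s) * (E (rep s) * R s)⁻¹ := by
          rw [← E_mul, mul_inv_rev, mul_assoc, mul_inv_cancel_left,
            inv_eq_of_mul_eq_one_right (E_sq (rep s))]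
        rw [e]
        exact mul_mem ha (inv_mem hra)
      simp only [Finset.coe_image, Set.mem_image, Finset.mem_coe, Finset.mem_product,
        List.mem_toFinset]
      refine ⟨(w ^^^ rep s, s), ⟨?_, hsS⟩, ?_⟩
      · rw [hF, List.mem_filter]
        refine ⟨List.mem_range.2 (Nat.xor_lt_two_pow (n := 11) hw hr), List.all_eq_true.2 ?_⟩
        intro s' hs'
        obtain ⟨hs2, z, hz, hza⟩ := (hS s').2 hs'
        have hc : E (w ^^^ rep s) * (E z * R s') = (E z * R s') * E (w ^^^ rep s) :=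
          congrArg Subtype.val (hel.1.is_comm.comm ⟨_, hEA⟩ ⟨_, hza⟩)
        rw [mul_assoc (E z), R_E, ← mul_assoc, ← mul_assoc, E_mul, E_mul] at hc
        have hlt := Nat.xor_lt_two_pow (n := 11) hw hr
        have h := (unique (Nat.xor_lt_two_pow (n := 11) hlt hz) hs2
          (Nat.xor_lt_two_pow (n := 11) hz (act_lt s' hlt)) hs2 hc).1
        rw [Nat.xor_comm _ z, Nat.xor_right_inj] at h
        rw [← h]
        exact Nat.beq_refl _
      · rw [← E_mul, mul_assoc, ← mul_assoc (E (rep s)), E_sq, one_mul]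
    calc Nat.card A ≤ _ := Nat.card_mono (Finset.finite_toSet _) hA
      _ ≤ F.length * S.length := by
        rw [Nat.card_coe_set_eq, Set.ncard_coe_finset]
        refine Finset.card_image_le.trans ?_
        rw [Finset.card_product]
        exact Nat.mul_le_mul (List.toFinset_card_le _) (List.toFinset_card_le _)
      _ < 2048 := Nat.le_of_ble_eq_true hcount

end

/-- The elementary abelian subgroup of order `2 ^ 11`. -/
noncomputable def V : Subgroup G where
  carrier := {x | ∃ v, v < 2048 ∧ x = E v}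
  one_mem' := ⟨0, by norm_num, E_zero.symm⟩
  mul_mem' := by
    rintro _ _ ⟨v, hv, rfl⟩ ⟨w, hw, rfl⟩
    exact ⟨_, Nat.xor_lt_two_pow (n := 11) hv hw, E_mul v w⟩
  inv_mem' := by
    rintro _ ⟨v, hv, rfl⟩
    exact ⟨v, hv, inv_eq_of_mul_eq_one_right (E_sq v)⟩

theorem mem_T_of_E {v : Nat} (hv : v < 2048) : E v ∈ T :=
  ⟨v, 0, hv, by norm_num, by rw [R_zero, mul_one]⟩

theorem V_props : V ≤ T ∧ (V.subgroupOf T).Normal ∧ Cfsg.IsElementaryAbelian 2 V ∧
    Nat.card V = 2 ^ 11 := by
  refine ⟨?_, ⟨?_⟩, ⟨⟨⟨?_⟩⟩, ?_⟩, ?_⟩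
  · rintro _ ⟨v, hv, rfl⟩
    exact mem_T_of_E hv
  · rintro ⟨x, _⟩ hx ⟨g, hg⟩
    rw [Subgroup.mem_subgroupOf] at hx ⊢
    obtain ⟨v, hv, rfl⟩ := hx
    obtain ⟨w, s, hw, hs, rfl⟩ := hg
    refine ⟨w ^^^ act s v ^^^ w, Nat.xor_lt_two_pow (n := 11)
      (Nat.xor_lt_two_pow (n := 11) hw (act_lt s hv)) hw, ?_⟩
    simp only [Subgroup.coe_mul, Subgroup.coe_inv]
    rw [mul_assoc (E w), R_E, mul_inv_rev, inv_eq_of_mul_eq_one_right (E_sq w), ← E_mul, ← E_mul]
    group
  · rintro ⟨_, v, -, rfl⟩ ⟨_, w, -, rfl⟩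
    exact Subtype.ext (by
      show E v * E w = E w * E v
      rw [E_mul, E_mul, Nat.xor_comm])
  · rintro _ ⟨v, -, rfl⟩
    rw [pow_two, E_sq]
  · let f : Fin 2048 → V := fun v => ⟨E v, v, v.2, rfl⟩
    have hf : Function.Bijective f := by
      refine ⟨fun p q h => Fin.ext (unique (a := 0) (b := 0) p.2 (by norm_num) q.2 (by norm_num)
        (congrArg (fun x : V => (x : G) * R 0) h)).1, ?_⟩
      rintro ⟨_, v, hv, rfl⟩
      exact ⟨⟨v, hv⟩, rfl⟩
    rw [← Nat.card_congr (Equiv.ofBijective f hf), Nat.card_fin]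
    norm_num

theorem sylow_facts (P : Sylow 2 G) :
    (∀ A : Subgroup G, A ≤ P → (A.subgroupOf P).Normal → Cfsg.IsElementaryAbelian 2 A →
        Nat.card A ≤ 2 ^ 11) ∧
    ∃! A : Subgroup G, A ≤ P ∧ (A.subgroupOf P).Normal ∧ Cfsg.IsElementaryAbelian 2 A ∧
        Nat.card A = 2 ^ 11 := by
  have : Finite G := Fi23Order.card_bound.1
  have : Fact (Nat.Prime 2) := ⟨Nat.prime_two⟩
  have hTp : IsPGroup 2 T := IsPGroup.of_card card_T
  obtain ⟨Q, hQ⟩ := hTp.exists_le_sylow
  have hQT : (Q : Subgroup G) = T := by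
    refine (Subgroup.eq_of_le_of_card_ge hQ ?_).symm
    obtain ⟨k, hk⟩ := IsPGroup.iff_card.1 Q.2
    have hdv : 2 ^ k ∣ 4089470473293004800 :=
      Fi23Order.order_and_simple.2 ▸ hk ▸ Subgroup.card_subgroup_dvd_card _
    rw [hk, card_T]
    refine Nat.pow_le_pow_right (by norm_num) ?_
    by_contra hk'
    exact absurd ((pow_dvd_pow 2 (show 19 ≤ k by omega)).trans hdv) (by norm_num)
  obtain ⟨g, hg⟩ := MulAction.exists_smul_eq G P Q
  have hmap : (P : Subgroup G).map (MulAut.conj g).toMonoidHom = T := by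
    rw [← hQT, ← hg]
    rfl
  set e := MulAut.conj g
  have transfer : ∀ {A : Subgroup G}, A ≤ P → (A.subgroupOf P).Normal →
      Cfsg.IsElementaryAbelian 2 A →
      A.map e.toMonoidHom ≤ T ∧ ((A.map e.toMonoidHom).subgroupOf T).Normal ∧
        Cfsg.IsElementaryAbelian 2 (A.map e.toMonoidHom) ∧
        Nat.card (A.map e.toMonoidHom) = Nat.card A := by
    intro A hA hAn hAe
    refine ⟨hmap ▸ Subgroup.map_mono hA, ⟨?_⟩, ⟨⟨⟨?_⟩⟩, ?_⟩,
      Subgroup.card_map_of_injective e.injective⟩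
    · rintro ⟨_, _⟩ hx ⟨y, hy⟩
      rw [Subgroup.mem_subgroupOf] at hx ⊢
      obtain ⟨a, ha, rfl⟩ := hx
      rw [← hmap] at hy
      obtain ⟨p, hp, rfl⟩ := hy
      refine ⟨p * a * p⁻¹, ?_, by simp⟩
      have h1 := hAn.conj_mem ⟨a, hA ha⟩ ha ⟨p, hp⟩
      rw [Subgroup.mem_subgroupOf] at h1
      simpa using h1
    · rintro ⟨_, a, ha, rfl⟩ ⟨_, b, hb, rfl⟩
      refine Subtype.ext ?_
      have h1 : a * b = b * a := congrArg Subtype.val (hAe.1.is_comm.comm ⟨a, ha⟩ ⟨b, hb⟩)
      show e a * e b = e b * e a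
      rw [← map_mul, ← map_mul, h1]
    · rintro _ ⟨a, ha, rfl⟩
      rw [← map_pow, hAe.2 a ha, map_one]
  have bound : ∀ A : Subgroup G, A ≤ T → (A.subgroupOf T).Normal →
      Cfsg.IsElementaryAbelian 2 A → A ≤ V ∨ Nat.card A < 2 ^ 11 := by
    intro A hA hAn hAe
    rcases le_or_card_lt hA hAn hAe with h | h
    · exact Or.inl fun a ha => h a ha
    · exact Or.inr (by norm_num; exact h)
  obtain ⟨hVT, hVn, hVe, hVc⟩ := V_props
  constructor
  · intro A hA hAn hAe
    obtain ⟨h1, h2, h3, h4⟩ := transfer hA hAn hAe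
    rw [← h4]
    rcases bound _ h1 h2 h3 with h | h
    · exact hVc ▸ Subgroup.card_le_of_le h
    · exact h.le
  · refine ⟨V.map e.symm.toMonoidHom, ⟨?_, ⟨?_⟩, ⟨⟨⟨?_⟩⟩, ?_⟩, ?_⟩, ?_⟩
    · rintro _ ⟨v, hv, rfl⟩
      have h1 := hVT hv
      rw [← hmap] at h1
      obtain ⟨p, hp, rfl⟩ := h1
      have hsym : e.symm (e p) = p := e.symm_apply_apply p
      show e.symm (e p) ∈ (P : Subgroup G)
      rw [hsym]
      exact hp
    · rintro ⟨_, _⟩ hx ⟨p, hp⟩
      rw [Subgroup.mem_subgroupOf] at hx ⊢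
      obtain ⟨v, hv, rfl⟩ := hx
      refine ⟨e p * v * (e p)⁻¹, ?_, by simp⟩
      have hpT : e p ∈ T := hmap ▸ ⟨p, hp, rfl⟩
      have h1 := hVn.conj_mem ⟨v, hVT hv⟩ hv ⟨e p, hpT⟩
      rw [Subgroup.mem_subgroupOf] at h1
      simpa using h1
    · rintro ⟨_, a, ha, rfl⟩ ⟨_, b, hb, rfl⟩
      refine Subtype.ext ?_
      have h1 : a * b = b * a := congrArg Subtype.val (hVe.1.is_comm.comm ⟨a, ha⟩ ⟨b, hb⟩)
      show e.symm a * e.symm b = e.symm b * e.symm a
      rw [← map_mul, ← map_mul, h1]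
    · rintro _ ⟨a, ha, rfl⟩
      rw [← map_pow, hVe.2 a ha, map_one]
    · rw [Subgroup.card_map_of_injective e.symm.injective, hVc]
    · rintro A ⟨hA, hAn, hAe, hAc⟩
      obtain ⟨h1, h2, h3, h4⟩ := transfer hA hAn hAe
      have hle : A.map e.toMonoidHom ≤ V :=
        (bound _ h1 h2 h3).resolve_right (by rw [h4, hAc]; exact lt_irrefl _)
      have heq : A.map e.toMonoidHom = V :=
        Subgroup.eq_of_le_of_card_ge hle (by rw [h4, hAc, hVc])
      rw [← heq, Subgroup.map_map]
      have hid : e.symm.toMonoidHom.comp e.toMonoidHom = MonoidHom.id G :=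
        MonoidHom.ext fun x => e.symm_apply_apply x
      rw [hid, Subgroup.map_id]

end Cfsg.Agent.Fi23Sylow
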