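import Cfsg.Agent.Fi23Sylow.Base

/-!
The products `e v * r s`, `v` a vector of eleven bits and `s` one of seven, form a group of order
`2 ^ 18` in Fi23.
-/

set_option autoImplicit false
set_option Elab.async false
set_option maxRecDepth 100000

namespace Cfsg.Agent.Fi23Sylow

open Cfsg.Agent.CosetCert Cfsg.Agent.CosetCert.Fi23Index31671

/-- The chosen words among the first `k`. -/
def pick (W : List (List Nat)) : Nat → Nat → List Nat
  | 0, _ => []
  | k + 1, v => pick W k v ++ if v.testBit k then W.getD k [] else []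

/-- The sum of the chosen vectors among the first `k`. -/
def lin (M : List Nat) : Nat → Nat → Nat
  | 0, _ => 0
  | k + 1, v => if v.testBit k then lin M k v ^^^ M.getD k 0 else lin M k v

/-- The element of a vector. -/
def E (v : Nat) : G := gw (pick eWords 11 v)

/-- The element of a class. -/
def R (s : Nat) : G := gw (pick gWords 7 s)

/-- One generator. -/
def gen (j : Nat) : G := gw (gWords.getD j [])

/-- The class of `R s * gen j`. -/
noncomputable def stepS (s j : Nat) : Nat := stepStore.get s / 2 ^ (18 * j) % 128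

/-- The vector of `R s * gen j`. -/
noncomputable def stepU (s j : Nat) : Nat := stepStore.get s / 2 ^ (18 * j) / 128 % 2048

/-- The product of classes, for the generators among the first `k`. -/
noncomputable def mulK : Nat → Nat → Nat → Nat
  | 0, a, _ => a
  | k + 1, a, b => if b.testBit k then stepS (mulK k a b) k else mulK k a b

/-- The product of classes. -/
noncomputable def mulS (a b : Nat) : Nat := mulK 7 a b

/-- The action of a class on vectors, for the generators among the first `k`. -/
def actK : Nat → Nat → Nat → Nat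
  | 0, _, v => v
  | k + 1, s, v => if s.testBit k then actK k s (lin (actTab.getD k []) 11 v) else actK k s v

/-- The action of a class on vectors. -/
def act (s v : Nat) : Nat := actK 7 s v

theorem eWords_ok :
    allFrom (fun i => allFrom (fun k =>
      eqB (eWords.getD i [] ++ eWords.getD k []) (eWords.getD k [] ++ eWords.getD i []) &&
        eqB (eWords.getD i [] ++ eWords.getD i []) []) 0 11) 0 11 = true := by
  decide +kernel

theorem step_ok : allFrom (fun s => allFrom (fun j =>
    eqB (pick gWords 7 s ++ gWords.getD j [])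
      (pick eWords 11 (stepU s j) ++ pick gWords 7 (stepS s j))) 0 7) 0 128 = true := by
  decide +kernel

theorem actTab_ok : allFrom (fun j => allFrom (fun i =>
    eqB (gWords.getD j [] ++ eWords.getD i [])
        (pick eWords 11 ((actTab.getD j []).getD i 0) ++ gWords.getD j []) &&
      Nat.blt ((actTab.getD j []).getD i 0) 2048) 0 11) 0 7 = true := by
  decide +kernel

/-- A vector other than zero moves a base point. -/
theorem indep_ok : allFrom (fun v => Nat.beq v 0 ||
    !((bases.all fun b => Nat.beq (data.fwd (pick eWords 11 v) b) b))) 0 2048 = true := by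
  decide +kernel

/-- The transpositions fix the points, which the classes move differently. -/
theorem points_ok :
    ((ePts.all fun p => Nat.blt p 31671 && eWords.all fun w => Nat.beq (data.fwd w p) p) &&
      decide ((List.range 128).map fun s => ePts.map (data.fwd (pick gWords 7 s))).Nodup) = true := by
  decide +kernel

theorem words_lt : ((eWords ++ gWords).all fun w => w.all fun x => Nat.blt x 10) = true := by
  decide +kernel

theorem eWord_lt (i : Nat) : ∀ x ∈ eWords.getD i [], x < 10 := by
  intro x hx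
  rcases Nat.lt_or_ge i eWords.length with h | h
  · rw [List.getD_eq_getElem _ _ h] at hx
    exact Nat.le_of_ble_eq_true (List.all_eq_true.1 (List.all_eq_true.1 words_lt _
      (List.mem_append_left _ (List.getElem_mem h))) x hx)
  · rw [List.getD_eq_default _ _ h] at hx
    exact absurd hx List.not_mem_nil

theorem gWord_lt (i : Nat) : ∀ x ∈ gWords.getD i [], x < 10 := by
  intro x hx
  rcases Nat.lt_or_ge i gWords.length with h | h
  · rw [List.getD_eq_getElem _ _ h] at hx
    exact Nat.le_of_ble_eq_true (List.all_eq_true.1 (List.all_eq_true.1 words_lt _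
      (List.mem_append_right _ (List.getElem_mem h))) x hx)
  · rw [List.getD_eq_default _ _ h] at hx
    exact absurd hx List.not_mem_nil

theorem pick_lt {W : List (List Nat)} (hW : ∀ i, ∀ x ∈ W.getD i [], x < 10) :
    ∀ k v, ∀ x ∈ pick W k v, x < 10
  | 0, v, x, hx => absurd hx List.not_mem_nil
  | k + 1, v, x, hx => by
    rcases List.mem_append.1 hx with hx | hx
    · exact pick_lt hW k v x hx
    · split at hx
      · exact hW k x hx
      · exact absurd hx List.not_mem_nil

/-- The elements of the first `k` transpositions. -/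
def Ek (k v : Nat) : G := gw (pick eWords k v)

theorem gw_pick_succ (W : List (List Nat)) (k v : Nat) :
    gw (pick W (k + 1) v) = gw (pick W k v) * if v.testBit k then gw (W.getD k []) else 1 := by
  rw [pick, gw_append]
  split
  · rfl
  · rw [gw_nil]

theorem e_commute {i k : Nat} (hi : i < 11) (hk : k < 11) :
    Commute (gw (eWords.getD i [])) (gw (eWords.getD k [])) ∧
      gw (eWords.getD i []) * gw (eWords.getD i []) = 1 := by
  have h := (allFrom_iff _ _ _).1 ((allFrom_iff _ _ _).1 eWords_ok i (Nat.zero_le _) (by omega)) k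
    (Nat.zero_le _) (by omega)
  rw [Bool.and_eq_true] at h
  have h1 := eq_of_eqB h.1
  have h2 := eq_of_eqB h.2
  rw [gw_append, gw_append] at h1
  rw [gw_append, gw_nil] at h2
  exact ⟨h1, h2⟩

theorem Ek_commute_gen : ∀ k, k ≤ 11 → ∀ v i, i < 11 →
    Commute (Ek k v) (gw (eWords.getD i []))
  | 0, _, v, i, _ => by rw [Ek, pick, gw_nil]; exact Commute.one_left _
  | k + 1, hk, v, i, hi => by
    rw [Ek, gw_pick_succ]
    refine (Ek_commute_gen k (by omega) v i hi).mul_left ?_
    split
    · exact (e_commute (by omega) hi).1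
    · exact Commute.one_left _

theorem Ek_mul : ∀ k, k ≤ 11 → ∀ v w, Ek k v * Ek k w = Ek k (v ^^^ w)
  | 0, _, v, w => by simp [Ek, pick, gw_nil]
  | k + 1, hk, v, w => by
    have ih := Ek_mul k (by omega) v w
    have hc := Ek_commute_gen k (by omega) w k (by omega)
    have hsq := (e_commute (show k < 11 by omega) (show k < 11 by omega)).2
    simp only [Ek] at ih hc ⊢
    rw [gw_pick_succ, gw_pick_succ, gw_pick_succ, Nat.testBit_xor, ← ih]
    cases v.testBit k <;> cases w.testBit k <;>
      simp only [if_true, if_false, Bool.false_eq_true, Bool.false_bne, Bool.true_bne, Bool.not_true,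
        Bool.not_false, mul_one]
    · rw [mul_assoc]
    · rw [mul_assoc, mul_assoc, hc.eq]
    · rw [mul_assoc, ← mul_assoc (gw (eWords.getD k [])) (gw (pick eWords k w)), ← hc.eq,
        mul_assoc, hsq, mul_one]

theorem E_mul (v w : Nat) : E v * E w = E (v ^^^ w) := Ek_mul 11 le_rfl v w

theorem E_zero : E 0 = 1 := by
  have h := E_mul 0 0
  rw [Nat.xor_self] at h
  exact mul_eq_left.1 h

theorem E_sq (v : Nat) : E v * E v = 1 := by rw [E_mul, Nat.xor_self, E_zero]

theorem lin_lt {M : List Nat} (hM : ∀ i, i < 11 → M.getD i 0 < 2048) :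
    ∀ k, k ≤ 11 → ∀ v, lin M k v < 2048
  | 0, _, v => by show (0 : Nat) < 2048; norm_num
  | k + 1, hk, v => by
    rw [lin]
    split
    · exact Nat.xor_lt_two_pow (n := 11) (lin_lt hM k (by omega) v) (hM k (by omega))
    · exact lin_lt hM k (by omega) v

theorem gen_conj {j i : Nat} (hj : j < 7) (hi : i < 11) :
    gen j * gw (eWords.getD i []) = E ((actTab.getD j []).getD i 0) * gen j ∧
      (actTab.getD j []).getD i 0 < 2048 := by
  have h := (allFrom_iff _ _ _).1 ((allFrom_iff _ _ _).1 actTab_ok j (Nat.zero_le _) (by omega)) i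
    (Nat.zero_le _) (by omega)
  rw [Bool.and_eq_true] at h
  have h1 := eq_of_eqB h.1
  rw [gw_append, gw_append] at h1
  exact ⟨h1, Nat.le_of_ble_eq_true h.2⟩

theorem gen_Ek {j : Nat} (hj : j < 7) : ∀ k, k ≤ 11 → ∀ v,
    gen j * Ek k v = E (lin (actTab.getD j []) k v) * gen j
  | 0, _, v => by simp [Ek, pick, lin, gw_nil, E_zero]
  | k + 1, hk, v => by
    have ih := gen_Ek hj k (by omega) v
    simp only [Ek] at ih ⊢
    rw [gw_pick_succ, ← mul_assoc, ih, lin, mul_assoc]
    split
    · rw [(gen_conj hj (show k < 11 by omega)).1, ← mul_assoc, E_mul]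
    · rw [mul_one]

/-- The product of the generators of `s` among the first `k`. -/
def Rk (k s : Nat) : G := gw (pick gWords k s)

theorem Rk_succ (k s : Nat) :
    Rk (k + 1) s = Rk k s * if s.testBit k then gen k else 1 :=
  gw_pick_succ gWords k s

theorem Rk_E : ∀ k, k ≤ 7 → ∀ s v, Rk k s * E v = E (actK k s v) * Rk k s
  | 0, _, s, v => by simp [Rk, pick, actK, gw_nil]
  | k + 1, hk, s, v => by
    rw [Rk_succ, actK]
    split
    · rw [mul_assoc, show gen k * E v = E (lin (actTab.getD k []) 11 v) * gen k from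
          gen_Ek (by omega) 11 le_rfl v, ← mul_assoc, Rk_E k (by omega), mul_assoc]
    · rw [mul_one, Rk_E k (by omega)]

theorem R_E (s v : Nat) : R s * E v = E (act s v) * R s := Rk_E 7 le_rfl s v

theorem actK_lt : ∀ k, k ≤ 7 → ∀ s v, v < 2048 → actK k s v < 2048
  | 0, _, s, v, hv => hv
  | k + 1, hk, s, v, hv => by
    rw [actK]
    split
    · exact actK_lt k (by omega) s _
        (lin_lt (fun i hi => (gen_conj (show k < 7 by omega) hi).2) 11 le_rfl v)
    · exact actK_lt k (by omega) s v hv

theorem act_lt (s : Nat) {v : Nat} (hv : v < 2048) : act s v < 2048 := actK_lt 7 le_rfl s v hv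

theorem step_spec {s j : Nat} (hs : s < 128) (hj : j < 7) :
    R s * gen j = E (stepU s j) * R (stepS s j) := by
  have h := (allFrom_iff _ _ _).1 ((allFrom_iff _ _ _).1 step_ok s (Nat.zero_le _) (by omega)) j
    (Nat.zero_le _) (by omega)
  have h1 := eq_of_eqB h
  rw [gw_append, gw_append] at h1
  exact h1

theorem R_Rk {a : Nat} (ha : a < 128) : ∀ k, k ≤ 7 → ∀ b,
    mulK k a b < 128 ∧ ∃ u, u < 2048 ∧ R a * Rk k b = E u * R (mulK k a b)
  | 0, _, b => ⟨ha, 0, by norm_num, by simp [Rk, pick, gw_nil, E_zero, mulK]⟩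
  | k + 1, hk, b => by
    obtain ⟨h1, u, hu, e⟩ := R_Rk ha k (by omega) b
    rw [Rk_succ, mulK, ← mul_assoc, e]
    split
    · refine ⟨Nat.mod_lt _ (by norm_num), u ^^^ stepU (mulK k a b) k,
        Nat.xor_lt_two_pow (n := 11) hu (Nat.mod_lt _ (by norm_num)), ?_⟩
      rw [mul_assoc, step_spec h1 (by omega), ← mul_assoc, E_mul]
    · exact ⟨h1, u, hu, mul_one _⟩

theorem mulS_lt {a : Nat} (ha : a < 128) (b : Nat) : mulS a b < 128 := (R_Rk ha 7 le_rfl b).1

theorem R_mul {a : Nat} (ha : a < 128) (b : Nat) :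
    ∃ u, u < 2048 ∧ R a * R b = E u * R (mulS a b) := (R_Rk ha 7 le_rfl b).2

theorem mul_spec {v a w b : Nat} (hv : v < 2048) (ha : a < 128) (hw : w < 2048) :
    ∃ u, u < 2048 ∧ (E v * R a) * (E w * R b) = E u * R (mulS a b) := by
  obtain ⟨u, hu, e⟩ := R_mul ha b
  refine ⟨v ^^^ act a w ^^^ u, Nat.xor_lt_two_pow (n := 11)
    (Nat.xor_lt_two_pow (n := 11) hv (act_lt a hw)) hu, ?_⟩
  rw [mul_assoc, ← mul_assoc (R a), R_E, mul_assoc (E (act a w)), e, ← mul_assoc, ← mul_assoc,
    E_mul, E_mul]

theorem R_zero : R 0 = 1 := by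
  show gw (pick gWords 7 0) = 1
  rw [show pick gWords 7 0 = [] from rfl, gw_nil]

/-- The pairs are distinct. -/
theorem unique {v a w b : Nat} (hv : v < 2048) (ha : a < 128) (hw : w < 2048) (hb : b < 128)
    (h : E v * R a = E w * R b) : v = w ∧ a = b := by
  have hp := points_ok
  rw [Bool.and_eq_true, decide_eq_true_eq] at hp
  have hEfix : ∀ p ∈ ePts, ∀ k u, data.fwd (pick eWords k u) p = p := by
    intro p hp' k u
    have h1 := List.all_eq_true.1 hp.1 p hp'
    rw [Bool.and_eq_true] at h1
    induction k with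
    | zero => rfl
    | succ k ih =>
      rw [pick, Data.fwd_append, ih]
      split
      · rcases Nat.lt_or_ge k eWords.length with hk | hk
        · rw [List.getD_eq_getElem _ _ hk]
          exact Nat.eq_of_beq_eq_true (List.all_eq_true.1 h1.2 _ (List.getElem_mem hk))
        · rw [List.getD_eq_default _ _ hk]; rfl
      · rfl
  have hsig : ePts.map (data.fwd (pick gWords 7 a)) = ePts.map (data.fwd (pick gWords 7 b)) := by
    refine List.map_congr_left fun p hp' => ?_
    have h1 := List.all_eq_true.1 hp.1 p hp'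
    rw [Bool.and_eq_true] at h1
    have hlt : ∀ u c, ∀ x ∈ pick eWords 11 u ++ pick gWords 7 c, x < 10 := fun u c x hx =>
      (List.mem_append.1 hx).elim (pick_lt eWord_lt 11 u x) (pick_lt gWord_lt 7 c x)
    have h2 := fwd_congr (hlt v a) (hlt w b) (by rw [gw_append, gw_append]; exact h)
      (Nat.le_of_ble_eq_true h1.1)
    rwa [Data.fwd_append, Data.fwd_append, hEfix p hp', hEfix p hp'] at h2
  have hab : a = b := List.inj_on_of_nodup_map hp.2 (List.mem_range.2 ha) (List.mem_range.2 hb) hsig
  subst hab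
  refine ⟨?_, rfl⟩
  have h3 : E (v ^^^ w) = 1 := by rw [← E_mul, mul_right_cancel h, E_sq]
  have h4 := (allFrom_iff _ _ _).1 indep_ok (v ^^^ w) (Nat.zero_le _)
    (by rw [Nat.zero_add]; exact Nat.xor_lt_two_pow (n := 11) hv hw)
  rw [Bool.or_eq_true] at h4
  rcases h4 with h4 | h4
  · exact Nat.xor_eq_zero_iff.1 (Nat.eq_of_beq_eq_true h4)
  · exfalso
    rw [Bool.not_eq_true', ← Bool.not_eq_true, List.all_eq_true] at h4
    refine h4 fun b hb => ?_
    have h5 := fwd_congr (pick_lt eWord_lt 11 _) (v := []) (fun x hx => absurd hx List.not_mem_nil)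
      (h3.trans gw_nil.symm) (bases_eq.2.1 b hb)
    rw [h5]
    exact Nat.beq_refl b

/-- The Sylow subgroup. -/
noncomputable def T : Subgroup G where
  carrier := {x | ∃ v s, v < 2048 ∧ s < 128 ∧ x = E v * R s}
  one_mem' := ⟨0, 0, by norm_num, by norm_num, by rw [E_zero, R_zero, mul_one]⟩
  mul_mem' := by
    rintro _ _ ⟨v, a, hv, ha, rfl⟩ ⟨w, b, hw, hb, rfl⟩
    obtain ⟨u, hu, e⟩ := mul_spec (b := b) hv ha hw
    exact ⟨u, _, hu, mulS_lt ha b, e⟩
  inv_mem' := by
    intro x hx
    have : Finite G := Fi23Order.card_bound.1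
    obtain ⟨m, hm⟩ : ∃ m, orderOf x = m + 1 :=
      ⟨orderOf x - 1, by have := orderOf_pos x; omega⟩
    have hinv : x⁻¹ = x ^ m := by
      rw [inv_eq_iff_mul_eq_one, ← pow_succ', ← hm, pow_orderOf_eq_one]
    rw [hinv]
    clear hinv hm
    induction m with
    | zero => exact ⟨0, 0, by norm_num, by norm_num, by rw [pow_zero, E_zero, R_zero, mul_one]⟩
    | succ m ih =>
      rw [pow_succ]
      obtain ⟨v, a, hv, ha, e1⟩ := ih
      obtain ⟨w, b, hw, hb, e2⟩ := hx
      obtain ⟨u, hu, e⟩ := mul_spec (b := b) hv ha hw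
      exact ⟨u, _, hu, mulS_lt ha b, by rw [e1, e2, e]⟩

theorem mem_T {v s : Nat} (hv : v < 2048) (hs : s < 128) : E v * R s ∈ T :=
  ⟨v, s, hv, hs, rfl⟩

theorem card_T : Nat.card T = 2 ^ 18 := by
  let f : Fin 2048 × Fin 128 → T := fun p => ⟨E p.1 * R p.2, mem_T p.1.2 p.2.2⟩
  have hf : Function.Bijective f := by
    refine ⟨fun p q h => ?_, ?_⟩
    · have h2 := unique p.1.2 p.2.2 q.1.2 q.2.2 (congrArg Subtype.val h)
      exact Prod.ext (Fin.ext h2.1) (Fin.ext h2.2)
    · rintro ⟨_, v, s, hv, hs, rfl⟩
      exact ⟨(⟨v, hv⟩, ⟨s, hs⟩), rfl⟩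
  rw [← Nat.card_congr (Equiv.ofBijective f hf), Nat.card_prod, Nat.card_fin, Nat.card_fin]
  norm_num

end Cfsg.Agent.Fi23Sylow
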